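import Cfsg.Agent.H548.RIM.Three
import Cfsg.Agent.H229.RIM.CaseK

/-!
# S4816: the row `RowThree'` (helper548)
-/

set_option autoImplicit false

namespace Cfsg.Agent.H548.RIM

universe u

/-- The field `RowThree'` of the frame. -/
theorem rowThree (p : ℕ) [Fact p.Prime] : Cfsg.Agent.H229.RIM.RowThree'.{u} p :=
  fun E N φ hE hQ hN hex => rowThree' p E N φ hE hQ hN hex

end Cfsg.Agent.H548.RIM
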