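import Cfsg.Agent.H548.RIM.Orb
import Cfsg.Agent.H229.RIM.Defs
import Cfsg.Agent.H437.RIM.TwoPrimes
import Cfsg.Agent.S0000

/-!
# S4816, RowThree (helper548)

`rowThree'`: the statement `RowThree` of `H229/RIM/Defs.lean` except for `p = 5`, `E / Z(E) = A₆`, `6 ∣ |Z(E)|` (where it is false:
`G = 6.M₁₀` has only two orbits).
-/

set_option autoImplicit false

namespace Cfsg.Agent.H548.RIM

open Cfsg Cfsg.Agent.H229.RIM

universe u

/-- **Three orbits**: `RowThree` without the exception. -/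
theorem rowThree' (p : ℕ) [hp : Fact p.Prime] {G : Type u} [Group G] [Finite G] (E : Subgroup G) (N : Subgroup E)
    (φ : N →* ℂˣ) (hE : E.Normal) (hQ : QBad p N φ) (hN : ∀ n : E, n ∈ N → (n : G) ∈ Subgroup.center G)
    (hex : ¬ (p = 5 ∧ Nat.card (E ⧸ Subgroup.center E) = 360 ∧ 6 ∣ Nat.card (Subgroup.center E))) :
    ∃ ψ : Fin 3 → E → ℂ, (∀ i, IsIrrCharacter E (ψ i)) ∧ (∀ i, ∀ n : N, ψ i n = ψ i 1 * φ n) ∧
      ∀ i j, i ≠ j → ∀ g : G, ¬ ∀ (x y : E), (y : G) = g * x * g⁻¹ → ψ i y = ψ j x := by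
  classical
  have := hQ.simp
  have hne : commutator (E ⧸ Subgroup.center E) = ⊤ := by
    have h1 : (commutator E).map (QuotientGroup.mk' (Subgroup.center E)) = commutator (E ⧸ Subgroup.center E) := by
      rw [map_commutator_eq, MonoidHom.range_eq_top.2 (QuotientGroup.mk'_surjective _)]
      rfl
    rw [← h1, hQ.perf, ← MonoidHom.range_eq_map]
    exact MonoidHom.range_eq_top.2 (QuotientGroup.mk'_surjective _)
  have hna : ¬ IsMulCommutative (E ⧸ Subgroup.center E) := by
    intro h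
    have h1 : commutator (E ⧸ Subgroup.center E) = ⊥ := by
      rw [commutator_def, Subgroup.commutator_eq_bot_iff_le_centralizer]
      intro x _
      rw [Subgroup.mem_centralizer_iff]
      intro y _
      exact h.is_comm.comm y x
    have h2 := this.exists_pair_ne
    obtain ⟨x, y, hxy⟩ := h2
    apply hxy
    rw [hne] at h1
    have hx : x ∈ (⊥ : Subgroup (E ⧸ Subgroup.center E)) := h1 ▸ Subgroup.mem_top x
    have hy : y ∈ (⊥ : Subgroup (E ⧸ Subgroup.center E)) := h1 ▸ Subgroup.mem_top y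
    rw [Subgroup.mem_bot.1 hx, Subgroup.mem_bot.1 hy]
  obtain ⟨r, hr, hrp, hrS, hrZ⟩ : ∃ r : ℕ, r.Prime ∧ r ≠ p ∧ r ∣ Nat.card (E ⧸ Subgroup.center E) ∧
      ¬ r ∣ Nat.card (Subgroup.center E) := by
    rcases Cfsg.Agent.H437.RIM.two_primes (p := p) hp.out hQ.perf hna Cfsg.Agent.S0000.result hQ.odd with h | ⟨⟨e⟩, h5, h6⟩
    · exact h
    · exfalso
      apply hex
      refine ⟨h5, ?_, h6⟩
      rw [Nat.card_congr e.toEquiv, nat_card_alternatingGroup]
      simp [Nat.factorial]
  have hrE : r ∣ Nat.card E := hrS.trans (Subgroup.card_quotient_dvd_card _)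
  have := Fact.mk hr
  obtain ⟨x, hx⟩ := exists_prime_orderOf_dvd_card' p hQ.pE
  obtain ⟨y, hy⟩ := exists_prime_orderOf_dvd_card' r hrE
  have hNZ : Nat.card N ∣ Nat.card (Subgroup.center E) := Subgroup.card_dvd_of_le hQ.cen
  have hpN : ¬ p ∣ Nat.card N := fun h => hQ.pZ (h.trans hNZ)
  have hrN : ¬ r ∣ Nat.card N := fun h => hrZ (h.trans hNZ)
  refine three_of_orders hE N φ hN ![1, x, y] ?_ ?_
  · intro i
    fin_cases i
    · show (orderOf (1 : E)).Coprime _
      rw [orderOf_one]
      exact Nat.coprime_one_left _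
    · show (orderOf x).Coprime _
      rw [hx]
      exact (Nat.Prime.coprime_iff_not_dvd hp.out).2 hpN
    · show (orderOf y).Coprime _
      rw [hy]
      exact (Nat.Prime.coprime_iff_not_dvd hr).2 hrN
  · have h1 : orderOf (1 : E) ≠ orderOf x := by
      rw [orderOf_one, hx]
      exact hp.out.one_lt.ne
    have h2 : orderOf (1 : E) ≠ orderOf y := by
      rw [orderOf_one, hy]
      exact hr.one_lt.ne
    have h3 : orderOf x ≠ orderOf y := by
      rw [hx, hy]
      exact hrp.symm
    intro i j hij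
    fin_cases i <;> fin_cases j
    · exact absurd rfl hij
    · exact h1
    · exact h2
    · exact h1.symm
    · exact absurd rfl hij
    · exact h3
    · exact h2.symm
    · exact h3.symm
    · exact absurd rfl hij

end Cfsg.Agent.H548.RIM
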